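import Mathlib
import Groth.Prelude.Def_LieS
import Groth.Prelude.Def_Red

/-!
# helper1: Lie(D(M))(B) = Hom(M, B)
-/

set_option autoImplicit false
universe u
open CategoryTheory Limits MonoidalCategory CartesianMonoidalCategory MonObj GrpObj AlgebraicGeometry
  TensorProduct

namespace Groth.Agent.H1.LieDiag

variable (R : Type u) [CommRing R] (M : Type) [AddCommGroup M] (B : Type u) [CommRing B] [Algebra R B]

/-- group-like elements multiply pointwise under convolution -/
lemma conv_single (T : Type u) [CommRing T] [Algebra R T]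
    (φ ψ : WithConv (MonoidAlgebra R (Multiplicative M) →ₐ[R] T)) (m : Multiplicative M) :
    (φ * ψ).ofConv (MonoidAlgebra.single m 1) =
      φ.ofConv (MonoidAlgebra.single m 1) * ψ.ofConv (MonoidAlgebra.single m 1) := by
  have h := AlgHom.convMul_apply φ ψ (MonoidAlgebra.single m 1)
  refine h.trans ?_
  simp [MonoidAlgebra.comul_single]

/-- the structure map of `Spec B` over `Spec R` -/
noncomputable abbrev fB : Spec (CommRingCat.of B) ⟶ Spec (CommRingCat.of R) :=
  Spec.map (CommRingCat.ofHom (algebraMap R B))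

variable {R M B}

/-- dual-number points of `D(M)` as algebra maps -/
noncomputable def toAlg (v : LieS.dpt B (fB R B) ⟶ Red.diag R M) :
    MonoidAlgebra R (Multiplicative M) →ₐ[R] DualNumber B :=
  (Spec.mapMulEquiv.symm ((LieS.dptIso B).inv ≫ v)).ofConv

/-- algebra maps as dual-number points of `D(M)` -/
noncomputable def ofAlg (φ : MonoidAlgebra R (Multiplicative M) →ₐ[R] DualNumber B) :
    LieS.dpt B (fB R B) ⟶ Red.diag R M :=
  (LieS.dptIso B).hom ≫ Spec.mapMulEquiv (WithConv.toConv φ)

lemma toAlg_ofAlg (φ : MonoidAlgebra R (Multiplicative M) →ₐ[R] DualNumber B) :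
    toAlg (ofAlg φ) = φ := by
  unfold toAlg ofAlg
  rw [Iso.inv_hom_id_assoc, MulEquiv.symm_apply_apply]

lemma mapMulEquiv_left {S T : Type u} [CommRing S] [CommRing T] [Bialgebra R S] [Algebra R T]
    (x : WithConv (S →ₐ[R] T)) :
    (Spec.mapMulEquiv x).left = Spec.map (CommRingCat.ofHom (x.ofConv : S →+* T)) := rfl

lemma dptIso_inv_left : (LieS.dptIso B (R := R)).inv.left =
    𝟙 (Spec (CommRingCat.of (DualNumber B))) := rfl

lemma left_eq (v : LieS.dpt B (fB R B) ⟶ Red.diag R M) :
    v.left = Spec.map (CommRingCat.ofHom ((toAlg v : MonoidAlgebra R (Multiplicative M) →ₐ[R]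
      DualNumber B) : MonoidAlgebra R (Multiplicative M) →+* DualNumber B)) := by
  have h := Spec.mapMulEquiv.apply_symm_apply ((LieS.dptIso B).inv ≫ v)
  have h2 : (Spec.mapMulEquiv (Spec.mapMulEquiv.symm ((LieS.dptIso B).inv ≫ v))).left =
      ((LieS.dptIso B).inv ≫ v).left := by rw [h]
  rw [mapMulEquiv_left, Over.comp_left, dptIso_inv_left] at h2
  exact (Category.id_comp _).symm.trans h2.symm

lemma toAlg_mul (v w : LieS.dpt B (fB R B) ⟶ Red.diag R M) (m : Multiplicative M) :
    toAlg (v * w) (MonoidAlgebra.single m 1) =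
      toAlg v (MonoidAlgebra.single m 1) * toAlg w (MonoidAlgebra.single m 1) := by
  unfold toAlg
  rw [MonObj.comp_mul, map_mul]
  exact conv_single R M (DualNumber B) _ _ m

lemma one_left : (1 : LieS.pt B (fB R B) ⟶ Red.diag R M).left =
    Spec.map (CommRingCat.ofHom (((Algebra.ofId R B).comp
      (Bialgebra.counitAlgHom R (MonoidAlgebra R (Multiplicative M)))) :
        MonoidAlgebra R (Multiplicative M) →+* B)) := by
  have h2 : (1 : LieS.pt B (fB R B) ⟶ Red.diag R M) =
      Spec.mapMulEquiv (R := R) (S := MonoidAlgebra R (Multiplicative M)) (T := B) 1 :=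
    (map_one _).symm
  rw [h2, mapMulEquiv_left]

lemma zeroSec_left : (LieS.zeroSec B (fB R B)).left =
    Spec.map (CommRingCat.ofHom (TrivSqZeroExt.fstHom B B B).toRingHom) := rfl

lemma mem_iff (v : LieS.dpt B (fB R B) ⟶ Red.diag R M) :
    v ∈ LieS.LieR (Red.diag R M) B ↔
      ∀ a, TrivSqZeroExt.fst (toAlg v a) = algebraMap R B (Coalgebra.counit a) := by
  rw [LieS.mem_Lie_iff]
  have h1 : (LieS.zeroSec B (fB R B) ≫ v).left =
      Spec.map (CommRingCat.ofHom ((TrivSqZeroExt.fstHom B B B).toRingHom.comp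
        ((toAlg v : MonoidAlgebra R (Multiplicative M) →ₐ[R]
      DualNumber B) : MonoidAlgebra R (Multiplicative M) →+* DualNumber B))) := by
    rw [Over.comp_left, left_eq v, zeroSec_left]
    exact LieS.specMap_comp _ _
  constructor
  · intro h a
    have h3 : (LieS.zeroSec B (fB R B) ≫ v).left =
        (1 : LieS.pt B (fB R B) ⟶ Red.diag R M).left := by rw [h]
    rw [h1, one_left] at h3
    have h4 := congrArg (fun t => t.hom) (Spec.map_injective h3)
    exact RingHom.congr_fun h4 a
  · intro h
    apply Over.OverMorphism.ext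
    rw [h1, one_left]
    congr 2
    exact RingHom.ext fun a => h a
lemma algHom_ext1 {T : Type u} [CommRing T] [Algebra R T]
    {φ₁ φ₂ : MonoidAlgebra R (Multiplicative M) →ₐ[R] T}
    (h : ∀ m, φ₁ (MonoidAlgebra.single m 1) = φ₂ (MonoidAlgebra.single m 1)) : φ₁ = φ₂ :=
  MonoidAlgebra.algHom_ext h (Subsingleton.elim _ _)

lemma fst_single (v : LieS.LieR (Red.diag R M) B) (m : Multiplicative M) :
    TrivSqZeroExt.fst (toAlg v.1 (MonoidAlgebra.single m 1)) = 1 := by
  rw [(mem_iff v.1).1 v.2]
  simp

lemma single_add (m n : M) :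
    (MonoidAlgebra.single (Multiplicative.ofAdd (m + n)) (1 : R)) =
      MonoidAlgebra.single (Multiplicative.ofAdd m) 1 *
        MonoidAlgebra.single (Multiplicative.ofAdd n) 1 := by
  rw [MonoidAlgebra.single_mul_single, _root_.one_mul]
  rfl

/-- the additive map attached to a Lie point -/
noncomputable def toHom (v : LieS.LieR (Red.diag R M) B) : M →+ B where
  toFun m := TrivSqZeroExt.snd (toAlg v.1 (MonoidAlgebra.single (Multiplicative.ofAdd m) 1))
  map_zero' := by
    have h : (MonoidAlgebra.single (Multiplicative.ofAdd (0 : M)) (1 : R)) = 1 := rfl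
    rw [h, map_one]
    rfl
  map_add' m n := by
    rw [single_add, map_mul, DualNumber.snd_mul, fst_single, fst_single]
    ring

lemma toHom_apply (v : LieS.LieR (Red.diag R M) B) (m : M) :
    toHom v m = TrivSqZeroExt.snd (toAlg v.1 (MonoidAlgebra.single (Multiplicative.ofAdd m) 1)) :=
  rfl

lemma toHom_mul (v w : LieS.LieR (Red.diag R M) B) : toHom (v * w) = toHom v + toHom w := by
  ext m
  rw [AddMonoidHom.add_apply, toHom_apply, toHom_apply, toHom_apply, Subgroup.coe_mul, toAlg_mul,
    DualNumber.snd_mul, fst_single, fst_single]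
  ring

lemma toHom_injective : Function.Injective (toHom (R := R) (M := M) (B := B)) := by
  intro v w h
  have h1 : toAlg v.1 = toAlg w.1 := by
    apply algHom_ext1
    intro m
    apply TrivSqZeroExt.ext
    · rw [fst_single, fst_single]
    · exact DFunLike.congr_fun h (Multiplicative.toAdd m)
  apply Subtype.ext
  apply Over.OverMorphism.ext
  rw [left_eq v.1, left_eq w.1, h1]

/-- the character `m ↦ 1 + l(m) ε` -/
noncomputable def chi (l : M →+ B) : Multiplicative M →* DualNumber B where
  toFun m := TrivSqZeroExt.inl 1 + TrivSqZeroExt.inr (l (Multiplicative.toAdd m))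
  map_one' := by
    rw [toAdd_one, map_zero, TrivSqZeroExt.inr_zero, add_zero]
    rfl
  map_mul' m n := by
    apply TrivSqZeroExt.ext
    · simp
    · rw [DualNumber.snd_mul]
      simp [add_comm]

lemma toHom_surjective : Function.Surjective (toHom (R := R) (M := M) (B := B)) := by
  intro l
  let φ : MonoidAlgebra R (Multiplicative M) →ₐ[R] DualNumber B :=
    MonoidAlgebra.lift R (DualNumber B) (Multiplicative M) (chi l)
  have hφ : ∀ m, φ (MonoidAlgebra.single m 1) = chi l m := by
    intro m
    simp [φ, MonoidAlgebra.lift_single]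
  have hv : ofAlg φ ∈ LieS.LieR (Red.diag R M) B := by
    rw [mem_iff, toAlg_ofAlg]
    have h1 : (TrivSqZeroExt.fstHom R B B).comp φ =
        (Algebra.ofId R B).comp (Bialgebra.counitAlgHom R (MonoidAlgebra R (Multiplicative M))) := by
      apply algHom_ext1
      intro m
      rw [AlgHom.comp_apply, hφ]
      simp [chi]
    intro a
    exact DFunLike.congr_fun h1 a
  refine ⟨⟨ofAlg φ, hv⟩, ?_⟩
  ext m
  rw [toHom_apply]
  change TrivSqZeroExt.snd (toAlg (ofAlg φ) _) = _
  rw [toAlg_ofAlg, hφ]
  simp [chi]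

lemma scale_left (b : B) : (LieS.scale B (fB R B) b).left =
    Spec.map (CommRingCat.ofHom (LieS.scaleHom b)) := rfl

lemma toAlg_scale (b : B) (v : LieS.dpt B (fB R B) ⟶ Red.diag R M)
    (a : MonoidAlgebra R (Multiplicative M)) :
    toAlg (LieS.scale B (fB R B) b ≫ v) a = LieS.scaleHom b (toAlg v a) := by
  have h1 := left_eq (LieS.scale B (fB R B) b ≫ v)
  rw [Over.comp_left, left_eq v, scale_left] at h1
  have h2 : Spec.map (CommRingCat.ofHom ((LieS.scaleHom b).comp
      ((toAlg v : MonoidAlgebra R (Multiplicative M) →ₐ[R] DualNumber B) :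
        MonoidAlgebra R (Multiplicative M) →+* DualNumber B))) =
      Spec.map (CommRingCat.ofHom ((toAlg (LieS.scale B (fB R B) b ≫ v) :
        MonoidAlgebra R (Multiplicative M) →ₐ[R] DualNumber B) :
        MonoidAlgebra R (Multiplicative M) →+* DualNumber B)) :=
    (LieS.specMap_comp _ _).symm.trans h1
  have h3 := congrArg (fun t => t.hom) (Spec.map_injective h2)
  exact (RingHom.congr_fun h3 a).symm

lemma snd_scaleHom (b : B) (x : DualNumber B) :
    TrivSqZeroExt.snd (LieS.scaleHom b x) = b * TrivSqZeroExt.snd x := by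
  simp only [LieS.scaleHom, LieS.dualHom_apply, TrivSqZeroExt.algebraMap_eq_inl', DualNumber.eps,
    TrivSqZeroExt.snd_add, TrivSqZeroExt.snd_inl, TrivSqZeroExt.inl_mul_inr,
    TrivSqZeroExt.snd_inr, zero_add, smul_eq_mul, _root_.mul_one]
  rw [Algebra.algebraMap_self, RingHom.id_apply, RingHom.id_apply, mul_comm]

theorem main : ∃ e : LieS.LieR (Red.diag R M) B ≃* Multiplicative (M →+ B),
      (∀ (v : LieS.LieR (Red.diag R M) B) (m : M),
        Multiplicative.toAdd (e v) m =
          TrivSqZeroExt.snd (((Spec.mapMulEquiv.symm ((LieS.dptIso B).inv ≫ v.1)).ofConv :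
            MonoidAlgebra R (Multiplicative M) →ₐ[R] DualNumber B)
            (MonoidAlgebra.single (Multiplicative.ofAdd m) 1))) ∧
      ∀ (b : B) (v : LieS.LieR (Red.diag R M) B),
        e (b • v) = Multiplicative.ofAdd (b • Multiplicative.toAdd (e v)) := by
  let e0 : LieS.LieR (Red.diag R M) B →* Multiplicative (M →+ B) :=
    MonoidHom.mk' (fun v => Multiplicative.ofAdd (toHom v)) (fun v w => by
      change Multiplicative.ofAdd (toHom (v * w)) = _
      rw [toHom_mul]
      rfl)
  have hbij : Function.Bijective e0 :=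
    ⟨fun v w h => toHom_injective (Multiplicative.ofAdd.injective h),
      fun l => by
        obtain ⟨v, hv⟩ := toHom_surjective (R := R) (Multiplicative.toAdd l)
        exact ⟨v, congrArg Multiplicative.ofAdd hv⟩⟩
  refine ⟨MulEquiv.ofBijective e0 hbij, fun v m => rfl, fun b v => ?_⟩
  change Multiplicative.ofAdd (toHom (b • v)) = Multiplicative.ofAdd (b • toHom v)
  congr 1
  ext m
  rw [toHom_apply, LieS.smul_val, toAlg_scale, snd_scaleHom]
  rfl

end Groth.Agent.H1.LieDiag
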